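import Cfsg.Agent.Lib.ThRep.Lanes

/-!
The product of two matrices of degree 248.
-/

set_option autoImplicit false

namespace CfsgLib.ThRep

open CfsgLib.CosetEnum

/-- entries whose position is a multiple of 248 -/
noncomputable def colMask : ℕ :=
  Nat.rec 0 (fun _ ih => strict ih fun m => Nat.lor (Nat.shiftLeft m 2480) (nat_lit 1023)) (nat_lit 248)

/-- the first 248 entries -/
noncomputable def rowMask : ℕ := Nat.sub (Nat.pow (nat_lit 2) (nat_lit 2480)) (nat_lit 1)

/-- the unit entry in all 61504 positions -/
noncomputable def onesP : ℕ := Nat.div (Nat.sub (Nat.pow (nat_lit 2) (nat_lit 615040)) (nat_lit 1)) (nat_lit 1023)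

/-- the sum of the first outer products -/
noncomputable def accP (A B : ℕ) : ℕ → ℕ :=
  Nat.rec 0 fun i ih => strict ih fun s => Nat.add s
    (Nat.mul (Nat.land (Nat.shiftRight A (Nat.mul (nat_lit 10) i)) colMask)
      (Nat.land (Nat.shiftRight B (Nat.mul (nat_lit 2480) i)) rowMask))

/-- one step of reduction on all entries: low two bits plus the rest -/
noncomputable def fold4 (x : ℕ) : ℕ :=
  strict x fun v => strict onesP fun o =>
    Nat.add (Nat.land v (Nat.mul (nat_lit 3) o))
      (Nat.land (Nat.shiftRight v (nat_lit 2)) (Nat.mul (nat_lit 255) o))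

/-- reduction of all entries -/
noncomputable def redP (x : ℕ) : ℕ :=
  strict (fold4 (fold4 (fold4 (fold4 (fold4 (fold4 x)))))) fun v => strict onesP fun o =>
    Nat.sub v (Nat.mul (nat_lit 3) (Nat.land (Nat.land v (Nat.shiftRight v (nat_lit 1))) o))

/-- the product: first `A`, then `B` -/
noncomputable def mulP (A B : ℕ) : ℕ :=
  strict A fun a => strict B fun b => redP (accP a b (nat_lit 248))

/-- the unit matrix -/
noncomputable def oneP : ℕ :=
  Nat.rec 0 (fun _ ih => strict ih fun m => Nat.lor (Nat.shiftLeft m 2490) (nat_lit 1)) (nat_lit 248)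

end CfsgLib.ThRep
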