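import Cfsg.Agent.Lib.ThRep.MatA
import Cfsg.Agent.Lib.ThRep.MatB
import Cfsg.Agent.Lib.ThRep.MatC
import Cfsg.Agent.Lib.ThRep.MatD
import Cfsg.Agent.Lib.ThRep.MatE
import Cfsg.Agent.Lib.ThRep.MatS
import Cfsg.Agent.Lib.ThRep.MatSi
import Cfsg.Agent.Lib.ThRep.MatT
import Cfsg.Agent.Lib.ThRep.MatTi
import Cfsg.Agent.Lib.ThRep.MatU
import Cfsg.Agent.Lib.ThRep.MatUi
import Cfsg.Agent.Lib.ThRep.Mul

/-!
The matrices of the letters.
-/

set_option autoImplicit false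

namespace CfsgLib.ThRep

/-- the matrix of a letter -/
def letMat : ℕ → ℕ
  | 0 => matA
  | 1 => matB
  | 2 => matC
  | 3 => matD
  | 4 => matE
  | 5 => matS
  | 6 => matSi
  | 7 => matT
  | 8 => matTi
  | 9 => matU
  | 10 => matUi
  | _ => 0

end CfsgLib.ThRep
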