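import Cfsg.Agent.Lib.ThRep.MulSpec
import Cfsg.Agent.Lib.ThRep.Data

/-!
Evaluation of words and relators in the matrices of degree 248.
-/

set_option autoImplicit false

namespace CfsgLib.ThRep

open CfsgLib.CosetEnum

/-- the matrix of a letter, counting the inverses of the five involutions -/
noncomputable def mat16 (g : ℕ) : ℕ :=
  if g < 11 then letMat g else if g < 16 then letMat (g - 11) else oneP

/-- the matrix of a word -/
noncomputable def wordMat : List ℕ → ℕ
  | [] => oneP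
  | [g] => mat16 g
  | g :: h :: w => mulP (mat16 g) (wordMat (h :: w))

/-- a power -/
noncomputable def powMat (A : ℕ) : ℕ → ℕ :=
  Nat.rec oneP fun _ M => strict M fun M' => mulP A M'

/-- the matrix of a product of powers -/
noncomputable def facMat : List (List ℕ × ℕ) → ℕ
  | [] => oneP
  | f :: r => mulP (strict (wordMat f.1) fun A => powMat A f.2) (facMat r)

/-- the relators as products of powers of words -/
def relFactors : List (List (List ℕ × ℕ)) := [
  [([0], 2)],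
  [([1], 2)],
  [([2], 2)],
  [([3], 2)],
  [([4], 2)],
  [([0,1], 3)],
  [([0,4], 2)],
  [([1,2], 3)],
  [([1,3], 2)],
  [([1,4], 2)],
  [([0], 1), ([14,13], 4)],
  [([2,4], 2)],
  [([3,4], 3)],
  [([1,2,3,4], 8)],
  [([5], 7)],
  [([6,11,5,0], 1)],
  [([6,12,5,1], 1)],
  [([6,13,5,2], 1)],
  [([5,3], 2)],
  [([15,6,4,5], 1), ([6], 3), ([15], 1), ([5], 3)],
  [([7], 3)],
  [([8,11,7,0], 1)],
  [([8,12,7,1], 1)],
  [([8,13,7,2], 1)],
  [([8,14,7,3], 1)],
  [([8,15,7,4], 1)],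
  [([8,5,7], 1), ([6], 2)],
  [([9], 2), ([13,11], 1)],
  [([10,11,9,0], 1)],
  [([10,13,9,2], 1)],
  [([10,15,9,4], 1)],
  [([3,4,10,3,9], 2)],
  [([10,12,13,11,1,9,12,0,2,1,15], 1)],
  [([14,10,3,12,13,11,1,14,9,3,12,0,2,1,13,15,14,10,3,12,13,11,1,15,10], 1)],
  [([10,7,9,7], 1)],
  [([15], 1), ([6], 2), ([10], 1), ([5], 2), ([4], 1), ([6], 2), ([9], 1), ([5], 2)],
  [([0,2], 1), ([6,10], 3)],
  [([0,2], 1), ([6,10,5,9], 4)],
  [([3,6,6,9,5,5], 4), ([6], 2), ([15,14,13,3,4], 1), ([5], 2), ([5,15,14,13,3,4,6,14,13,3,13,11], 1)]]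

/-- a relator evaluates to the unit matrix -/
noncomputable def relOK (k : ℕ) : Bool := Nat.beq (facMat (relFactors.getD k [])) oneP

end CfsgLib.ThRep
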