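import Cfsg.Agent.Lib.ThRep.Mul

/-!
The product computes the product of matrices.
-/

set_option autoImplicit false

namespace CfsgLib.ThRep

open CfsgLib.CosetEnum

/-- the matrix of a number -/
def toMat (n : ℕ) (P : ℕ) : Matrix (Fin n) (Fin n) (ZMod 3) :=
  fun i j => (lane P (n * i.val + j.val) : ZMod 3)

/-- entries at most two, and none beyond the square -/
def Good (n : ℕ) (P : ℕ) : Prop := P < 1024 ^ (n * n) ∧ ∀ k, lane P k ≤ 2

/-- the first `m` steps of the column mask -/
noncomputable def colStep (m : ℕ) : ℕ :=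
  Nat.rec 0 (fun _ ih => strict ih fun v => Nat.lor (Nat.shiftLeft v 2480) (nat_lit 1023)) m

theorem colMask_eq : colMask = colStep 248 := rfl

theorem colStep_spec : ∀ m, colStep m < 1024 ^ (248 * m) ∧
    ∀ k, lane (colStep m) k = if k < 248 * m ∧ k % 248 = 0 then 1023 else 0
  | 0 => by simp [colStep, lane]
  | m + 1 => by
    obtain ⟨h1, h2⟩ := colStep_spec m
    have e : colStep (m + 1) = pack (fun k => if k = 0 then 1023 else 0) 248 + 1024 ^ 248 * colStep m := by
      change strict (colStep m) (fun v => Nat.lor (Nat.shiftLeft v 2480) 1023) = _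
      rw [strict_eq]
      change (colStep m) <<< 2480 ||| 1023 = _
      rw [show pack (fun k => if k = 0 then 1023 else 0) 248 = 1023 by
        simp [pack, Finset.sum_range_succ']]
      have hlt : (1023 : ℕ) < 2 ^ 2480 :=
        (by norm_num : (1023 : ℕ) < 2 ^ 10).trans_le (Nat.pow_le_pow_right two_pos (by norm_num))
      rw [← Nat.shiftLeft_add_eq_or_of_lt hlt, Nat.shiftLeft_eq, show (1024 : ℕ) = 2 ^ 10 from rfl,
        ← pow_mul]
      ring
    have hf : ∀ k < 248, (if k = 0 then 1023 else 0) < 1024 := fun k _ => by split <;> norm_num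
    refine ⟨?_, fun k => ?_⟩
    · rw [e, Nat.mul_succ, pow_add, mul_comm (1024 ^ (248 * m))]
      have := pack_lt hf
      calc _ < 1024 ^ 248 + 1024 ^ 248 * colStep m := by omega
        _ = 1024 ^ 248 * (colStep m + 1) := by ring
        _ ≤ _ := Nat.mul_le_mul_left _ h1
    · rw [e, lane_add_mul 248 _ _ (pack_lt hf), lane_pack hf, h2]
      by_cases hk : k < 248
      · simp only [if_pos hk]
        by_cases h0 : k = 0
        · simp [h0]
        · simp [h0, show k % 248 ≠ 0 by omega]
      · rw [if_neg hk]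
        exact if_congr (by omega) rfl rfl

/-- the first `m` steps of the unit matrix -/
noncomputable def oneStep (m : ℕ) : ℕ :=
  Nat.rec 0 (fun _ ih => strict ih fun v => Nat.lor (Nat.shiftLeft v 2490) (nat_lit 1)) m

theorem oneP_eq : oneP = oneStep 248 := rfl

theorem oneStep_spec : ∀ m, oneStep m < 1024 ^ (249 * m) ∧
    ∀ k, lane (oneStep m) k = if k < 249 * m ∧ k % 249 = 0 then 1 else 0
  | 0 => by simp [oneStep, lane]
  | m + 1 => by
    obtain ⟨h1, h2⟩ := oneStep_spec m
    have e : oneStep (m + 1) = pack (fun k => if k = 0 then 1 else 0) 249 + 1024 ^ 249 * oneStep m := by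
      change strict (oneStep m) (fun v => Nat.lor (Nat.shiftLeft v 2490) 1) = _
      rw [strict_eq]
      change (oneStep m) <<< 2490 ||| 1 = _
      rw [show pack (fun k => if k = 0 then 1 else 0) 249 = 1 by simp [pack, Finset.sum_range_succ']]
      have hlt : (1 : ℕ) < 2 ^ 2490 := Nat.one_lt_two_pow (by norm_num)
      rw [← Nat.shiftLeft_add_eq_or_of_lt hlt, Nat.shiftLeft_eq, show (1024 : ℕ) = 2 ^ 10 from rfl,
        ← pow_mul]
      ring
    have hf : ∀ k < 249, (if k = 0 then 1 else 0) < 1024 := fun k _ => by split <;> norm_num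
    refine ⟨?_, fun k => ?_⟩
    · rw [e, Nat.mul_succ, pow_add, mul_comm (1024 ^ (249 * m))]
      have := pack_lt hf
      calc _ < 1024 ^ 249 + 1024 ^ 249 * oneStep m := by omega
        _ = 1024 ^ 249 * (oneStep m + 1) := by ring
        _ ≤ _ := Nat.mul_le_mul_left _ h1
    · rw [e, lane_add_mul 249 _ _ (pack_lt hf), lane_pack hf, h2]
      by_cases hk : k < 249
      · simp only [if_pos hk]
        by_cases h0 : k = 0
        · simp [h0]
        · simp [h0, show k % 249 ≠ 0 by omega]
      · rw [if_neg hk]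
        exact if_congr (by omega) rfl rfl

theorem lane_oneP (k : ℕ) : lane oneP k = if k < 61504 ∧ k % 249 = 0 then 1 else 0 := by
  rw [oneP_eq, (oneStep_spec 248).2 k]
  exact if_congr (by omega) rfl rfl

theorem oneP_spec : Good 248 oneP ∧ toMat 248 oneP = 1 := by
  refine ⟨⟨?_, fun k => by rw [lane_oneP]; split <;> omega⟩, ?_⟩
  · have h : Nat.blt oneP (Nat.pow 2 615040) = true := by decide +kernel
    rw [Nat.blt_eq] at h
    rw [show (1024 : ℕ) = 2 ^ 10 from rfl, ← pow_mul]
    exact h
  · ext i j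
    rw [toMat, lane_oneP, Matrix.one_apply]
    by_cases h : i = j
    · subst h
      simp only [if_pos, Nat.cast_ite, Nat.cast_one, Nat.cast_zero]
      rw [if_pos ⟨by omega, by omega⟩]
    · have h' : (i : ℕ) ≠ j := fun e => h (Fin.ext e)
      rw [if_neg h, if_neg (by omega), Nat.cast_zero]

theorem geom_eq : ∀ m n, n = 10 * m →
    Nat.div (Nat.sub (Nat.pow (nat_lit 2) n) (nat_lit 1)) (nat_lit 1023) = pack (fun _ => 1) m := by
  intro m n hn
  have h : ∀ m, 1023 * pack (fun _ => 1) m + 1 = 1024 ^ m := fun m => by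
    induction m with
    | zero => simp [pack]
    | succ m ih =>
      rw [pack, Finset.sum_range_succ, pow_succ']
      change 1023 * (pack (fun _ => 1) m + _) + 1 = _
      generalize pack (fun _ => 1) m = p at ih ⊢
      rw [← ih]
      ring
  subst hn
  change (2 ^ (10 * m) - 1) / 1023 = _
  rw [pow_mul, show (2 : ℕ) ^ 10 = 1024 from rfl, ← h m, Nat.add_sub_cancel,
    Nat.mul_div_cancel_left _ (by norm_num)]

theorem onesP_eq : onesP = pack (fun _ => 1) 61504 := by
  unfold onesP
  exact geom_eq 61504 (nat_lit 615040) (by norm_num)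

attribute [local irreducible] onesP

theorem lane_scaled (c : ℕ) (hc : c < 1024) {k : ℕ} (hk : k < 61504) : lane (c * onesP) k = c := by
  rw [onesP_eq, pack, Finset.mul_sum]
  have e : (∑ i ∈ Finset.range 61504, c * (1 * 1024 ^ i)) = pack (fun _ => c) 61504 := by
    simp [pack]
  rw [e, lane_pack (fun _ _ => hc), if_pos hk]

theorem scaled_lt (c : ℕ) (hc : c < 1024) : c * onesP < 1024 ^ 61504 := by
  rw [onesP_eq, pack, Finset.mul_sum]
  have e : (∑ i ∈ Finset.range 61504, c * (1 * 1024 ^ i)) = pack (fun _ => c) 61504 := by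
    simp [pack]
  rw [e]
  exact pack_lt fun _ _ => hc

/-- one folding step of one entry -/
def fold1 (v : ℕ) : ℕ := v % 4 + v / 4

theorem fold1_le {v : ℕ} (h : v < 1024) : fold1 v < 1024 := by
  unfold fold1
  omega

theorem and_three (v : ℕ) : v &&& 3 = v % 4 := Nat.and_two_pow_sub_one_eq_mod v 2

theorem and_byte {v : ℕ} (h : v < 1024) : v / 2 ^ 2 &&& 255 = v / 4 := by
  rw [show 255 = 2 ^ 8 - 1 from rfl, Nat.and_two_pow_sub_one_eq_mod, Nat.mod_eq_of_lt (by norm_num; omega)]
  norm_num

theorem fold4_spec {x : ℕ} :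
    fold4 x = pack (fun k => fold1 (lane x k)) 61504 := by
  rw [fold4, strict_eq, strict_eq]
  change (x &&& 3 * onesP) + ((x >>> 2) &&& 255 * onesP) = _
  rw [← pack_lane (and_lt_right x (scaled_lt 3 (by norm_num))),
    ← pack_lane (and_lt_right (x >>> 2) (scaled_lt 255 (by norm_num))), pack_add]
  refine pack_congr fun k hk => ?_
  rw [lane_and, lane_scaled 3 (by norm_num) hk, lane_shift_and (by norm_num) (lane_scaled 255 (by norm_num) hk)
    (by norm_num), and_three, and_byte (lane_lt x k)]
  rfl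

theorem lane_fold4 {x k : ℕ} (hk : k < 61504) : lane (fold4 x) k = fold1 (lane x k) := by
  rw [fold4_spec, lane_pack (fun k _ => fold1_le (lane_lt x k)), if_pos hk]

/-- reduction of one entry -/
def red1 (v : ℕ) : ℕ :=
  let w := fold1 (fold1 (fold1 (fold1 (fold1 (fold1 v)))))
  w - 3 * (w &&& w / 2 &&& 1)

theorem red1_table : (List.range 1024).all (fun v => Nat.beq (red1 v) (v % 3) &&
    Nat.ble (3 * ((fold1 (fold1 (fold1 (fold1 (fold1 (fold1 v)))))) &&&
      (fold1 (fold1 (fold1 (fold1 (fold1 (fold1 v)))))) / 2 &&& 1))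
      (fold1 (fold1 (fold1 (fold1 (fold1 (fold1 v))))))) = true := by decide +kernel

theorem redP_spec (x : ℕ) :
    redP x = pack (fun k => lane x k % 3) 61504 := by
  have hv : ∀ k < 61504, lane (fold4 (fold4 (fold4 (fold4 (fold4 (fold4 x)))))) k =
      fold1 (fold1 (fold1 (fold1 (fold1 (fold1 (lane x k)))))) := fun k hk => by
    simp only [lane_fold4 hk]
  have hlt : fold4 (fold4 (fold4 (fold4 (fold4 (fold4 x))))) < 1024 ^ 61504 := by
    rw [fold4_spec]
    exact pack_lt fun k _ => fold1_le (lane_lt _ k)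
  rw [redP, strict_eq, strict_eq]
  generalize fold4 (fold4 (fold4 (fold4 (fold4 (fold4 x))))) = v at hv hlt
  change v - 3 * (v &&& v >>> 1 &&& onesP) = _
  have ht : v &&& v >>> 1 &&& onesP = pack (fun k => lane v k &&& lane v k / 2 &&& 1) 61504 := by
    refine eq_of_lanes (and_lt_right _ (by simpa using scaled_lt 1 (by norm_num)))
      (pack_lt fun k _ => Nat.and_le_right.trans_lt (by norm_num)) fun k hk => ?_
    rw [lane_pack (fun k _ => Nat.and_le_right.trans_lt (by norm_num)), if_pos hk]
    have h1 : lane (1 * onesP) k = 1 := lane_scaled 1 (by norm_num) hk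
    rw [one_mul] at h1
    rw [Nat.land_assoc, lane_and, lane_shift_and (by norm_num) h1 (by norm_num), pow_one,
      Nat.land_assoc]
  rw [ht]
  have hle : ∀ k < 61504, 3 * (lane v k &&& lane v k / 2 &&& 1) ≤ lane v k ∧
      lane v k - 3 * (lane v k &&& lane v k / 2 &&& 1) = lane x k % 3 := by
    intro k hk
    have h := List.all_eq_true.1 red1_table (lane x k) (List.mem_range.2 (lane_lt x k))
    simp only [Bool.and_eq_true, Nat.ble_eq, red1] at h
    rw [hv k hk]
    exact ⟨h.2, Nat.eq_of_beq_eq_true h.1⟩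
  refine Nat.sub_eq_of_eq_add ?_
  simp only [pack, Finset.mul_sum, ← Finset.sum_add_distrib]
  conv_lhs => rw [← pack_lane hlt, pack]
  refine Finset.sum_congr rfl fun k hk => ?_
  obtain ⟨h1, h2⟩ := hle k (Finset.mem_range.1 hk)
  rw [← mul_assoc, ← add_mul, ← h2, Nat.sub_add_cancel h1]

theorem col_eq (A i : ℕ) :
    (A >>> (10 * i)) &&& colMask =
      ∑ r ∈ Finset.range 248, lane A (248 * r + i) * 1024 ^ (248 * r) := by
  have hone : pack (fun k => if k = 0 then 1 else 0) 248 = 1 := by simp [pack, Finset.sum_range_succ']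
  rw [← mul_one (∑ r ∈ Finset.range 248, _), ← hone, ← outer_eq 248 (fun r => lane A (248 * r + i)) _ 248 (by norm_num)]
  have hf : ∀ k < 248 * 248, lane A (248 * (k / 248) + i) * (if k % 248 = 0 then 1 else 0) < 1024 :=
    fun k _ => by
      have := lane_lt A (248 * (k / 248) + i)
      split <;> omega
  refine eq_of_lanes (and_lt_right _ ?_) (pack_lt hf) fun k hk => ?_
  · rw [colMask_eq]; exact (colStep_spec 248).1
  rw [lane_and, lane_shift, colMask_eq, (colStep_spec 248).2 k, lane_pack hf, if_pos hk]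
  by_cases h0 : k % 248 = 0
  · rw [if_pos ⟨hk, h0⟩, if_pos h0, mul_one, show i + k = 248 * (k / 248) + i by omega,
      show (1023 : ℕ) = 2 ^ 10 - 1 from rfl, Nat.and_two_pow_sub_one_eq_mod, Nat.mod_eq_of_lt (lane_lt _ _)]
  · rw [if_neg (fun h => h0 h.2), if_neg h0, mul_zero, Nat.and_zero]

theorem mask_eq : ∀ x m n, n = 10 * m → Nat.land x (Nat.sub (Nat.pow (nat_lit 2) n) (nat_lit 1)) = x % 1024 ^ m := by
  intro x m n hn
  subst hn
  change x &&& (2 ^ (10 * m) - 1) = _
  rw [Nat.and_two_pow_sub_one_eq_mod, pow_mul]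
  norm_num

theorem row_eq (B i : ℕ) :
    (B >>> (2480 * i)) &&& rowMask = pack (fun j => lane B (248 * i + j)) 248 := by
  have e : (B >>> (2480 * i)) &&& rowMask = (B >>> (10 * (248 * i))) % 1024 ^ 248 := by
    rw [← mul_assoc]
    unfold rowMask
    exact mask_eq _ 248 (nat_lit 2480) (by norm_num)
  rw [e]
  refine eq_of_lanes (Nat.mod_lt _ (by positivity)) (pack_lt fun _ _ => lane_lt _ _) fun j hj => ?_
  rw [lane_pack (fun _ _ => lane_lt _ _), if_pos hj, ← lane_shift B]
  generalize B >>> (10 * (248 * i)) = y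
  conv_rhs => rw [← Nat.mod_add_div y (1024 ^ 248), lane_add_mul 248 _ _ (Nat.mod_lt _ (by positivity)),
    if_pos hj]

theorem accP_spec (A B : ℕ) : ∀ m, accP A B m = pack (fun k => ∑ i ∈ Finset.range m,
    lane A (248 * (k / 248) + i) * lane B (248 * i + k % 248)) 61504
  | 0 => by simp [accP, pack]
  | m + 1 => by
    change strict (accP A B m) (fun s => s + ((A >>> (10 * m)) &&& colMask) * ((B >>> (2480 * m)) &&& rowMask)) = _
    rw [strict_eq, accP_spec A B m, col_eq, row_eq, ← outer_eq 248 _ _ 248 (by norm_num),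
      show 248 * 248 = 61504 from rfl, pack_add]
    simp only [Finset.sum_range_succ]

theorem mulP_spec {A B : ℕ} (hA : Good 248 A) (hB : Good 248 B) :
    Good 248 (mulP A B) ∧ toMat 248 (mulP A B) = toMat 248 A * toMat 248 B := by
  have hsum : ∀ k, (∑ i ∈ Finset.range 248,
      lane A (248 * (k / 248) + i) * lane B (248 * i + k % 248)) < 1024 := fun k => by
    calc _ ≤ ∑ _i ∈ Finset.range 248, 4 :=
          Finset.sum_le_sum fun i _ => Nat.mul_le_mul (hA.2 _) (hB.2 _)
      _ = 992 := by simp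
      _ < _ := by norm_num
  have e : mulP A B = pack (fun k => (∑ i ∈ Finset.range 248,
      lane A (248 * (k / 248) + i) * lane B (248 * i + k % 248)) % 3) 61504 := by
    rw [mulP, strict_eq, strict_eq, redP_spec, accP_spec]
    refine pack_congr fun k hk => ?_
    rw [lane_pack (fun k _ => hsum k), if_pos hk]
  have hlt : ∀ k < 61504, (∑ i ∈ Finset.range 248,
      lane A (248 * (k / 248) + i) * lane B (248 * i + k % 248)) % 3 < 1024 := fun k _ => by omega
  refine ⟨⟨e ▸ pack_lt hlt, fun k => ?_⟩, ?_⟩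
  · rw [e, lane_pack hlt]
    split <;> omega
  · ext i j
    have hk : 248 * (i : ℕ) + j < 61504 := by omega
    simp only [toMat, Matrix.mul_apply]
    rw [e, lane_pack hlt, if_pos hk, ZMod.natCast_mod, Nat.mul_add_div (by norm_num),
      Nat.div_eq_of_lt j.2, add_zero, Nat.mul_add_mod, Nat.mod_eq_of_lt j.2, Nat.cast_sum,
      ← Fin.sum_univ_eq_sum_range
        (fun l => ((lane A (248 * i + l) * lane B (248 * l + j) : ℕ) : ZMod 3)) 248]
    simp

/-- the check of entries at most two -/
noncomputable def goodB (P : ℕ) : Bool :=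
  strict P fun v => strict onesP fun o =>
    Nat.beq (Nat.land v (Nat.mul (nat_lit 3) o)) v &&
      Nat.beq (Nat.land (Nat.land v (Nat.shiftRight v (nat_lit 1))) o) (nat_lit 0)

theorem good_of_goodB {P : ℕ} (h : goodB P = true) : Good 248 P := by
  rw [goodB, strict_eq, strict_eq, Bool.and_eq_true] at h
  have h1 : P &&& 3 * onesP = P := Nat.eq_of_beq_eq_true h.1
  have h2 : P &&& P >>> 1 &&& onesP = 0 := Nat.eq_of_beq_eq_true h.2
  have hP : P < 1024 ^ 61504 := h1 ▸ and_lt_right P (scaled_lt 3 (by norm_num))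
  refine ⟨hP, fun k => ?_⟩
  by_cases hk : k < 61504
  · have e1 := congrArg (lane · k) h1
    have e2 := congrArg (lane · k) h2
    simp only [lane_and, lane_scaled 3 (by norm_num) hk, and_three] at e1
    have h01 : lane (1 * onesP) k = 1 := lane_scaled 1 (by norm_num) hk
    rw [one_mul] at h01
    rw [Nat.land_assoc, lane_and, lane_shift_and (by norm_num) h01 (by norm_num), pow_one] at e2
    rw [show lane 0 k = 0 by simp [lane]] at e2
    have : lane P k < 4 := by omega
    interval_cases lane P k <;> simp_all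
  · rw [lane_eq_zero hP (by omega)]
    norm_num

end CfsgLib.ThRep
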