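import Cfsg.Agent.Lib.ThRep.Eval

/-!
Kernel check of some relators in the matrices.
-/

set_option autoImplicit false

namespace CfsgLib.ThRep

theorem relOK_6 : relOK 6 = true := by decide +kernel

theorem relOK_20 : relOK 20 = true := by decide +kernel

theorem relOK_24 : relOK 24 = true := by decide +kernel

theorem relOK_38 : relOK 38 = true := by decide +kernel

end CfsgLib.ThRep
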