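import Cfsg.Agent.Lib.ThRep.Eval

/-!
Kernel check of some relators in the matrices.
-/

set_option autoImplicit false

namespace CfsgLib.ThRep

theorem relOK_2 : relOK 2 = true := by decide +kernel

theorem relOK_5 : relOK 5 = true := by decide +kernel

theorem relOK_9 : relOK 9 = true := by decide +kernel

theorem relOK_17 : relOK 17 = true := by decide +kernel

theorem relOK_28 : relOK 28 = true := by decide +kernel

theorem relOK_33 : relOK 33 = true := by decide +kernel

end CfsgLib.ThRep
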