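import Cfsg.Agent.Lib.ThRep.Eval

/-!
Kernel check of some relators in the matrices.
-/

set_option autoImplicit false

namespace CfsgLib.ThRep

theorem relOK_4 : relOK 4 = true := by decide +kernel

theorem relOK_12 : relOK 12 = true := by decide +kernel

theorem relOK_18 : relOK 18 = true := by decide +kernel

theorem relOK_22 : relOK 22 = true := by decide +kernel

theorem relOK_30 : relOK 30 = true := by decide +kernel

theorem relOK_35 : relOK 35 = true := by decide +kernel

theorem relOK_36 : relOK 36 = true := by decide +kernel

end CfsgLib.ThRep
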