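import Cfsg.Agent.Lib.ThRep.Eval

/-!
Kernel check of some relators in the matrices.
-/

set_option autoImplicit false

namespace CfsgLib.ThRep

theorem relOK_0 : relOK 0 = true := by decide +kernel

theorem relOK_8 : relOK 8 = true := by decide +kernel

theorem relOK_14 : relOK 14 = true := by decide +kernel

theorem relOK_16 : relOK 16 = true := by decide +kernel

theorem relOK_19 : relOK 19 = true := by decide +kernel

theorem relOK_25 : relOK 25 = true := by decide +kernel

theorem relOK_31 : relOK 31 = true := by decide +kernel

end CfsgLib.ThRep
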