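import Cfsg.Agent.Lib.ThRep.Eval

/-!
Kernel check of some relators in the matrices.
-/

set_option autoImplicit false

namespace CfsgLib.ThRep

theorem relOK_1 : relOK 1 = true := by decide +kernel

theorem relOK_13 : relOK 13 = true := by decide +kernel

theorem relOK_15 : relOK 15 = true := by decide +kernel

theorem relOK_23 : relOK 23 = true := by decide +kernel

theorem relOK_27 : relOK 27 = true := by decide +kernel

theorem relOK_34 : relOK 34 = true := by decide +kernel

theorem relOK_37 : relOK 37 = true := by decide +kernel

end CfsgLib.ThRep
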