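import Cfsg.Agent.Lib.ThRep.Eval

/-!
Kernel check of some relators in the matrices.
-/

set_option autoImplicit false

namespace CfsgLib.ThRep

theorem relOK_3 : relOK 3 = true := by decide +kernel

theorem relOK_7 : relOK 7 = true := by decide +kernel

theorem relOK_10 : relOK 10 = true := by decide +kernel

theorem relOK_11 : relOK 11 = true := by decide +kernel

theorem relOK_21 : relOK 21 = true := by decide +kernel

theorem relOK_26 : relOK 26 = true := by decide +kernel

theorem relOK_29 : relOK 29 = true := by decide +kernel

theorem relOK_32 : relOK 32 = true := by decide +kernel

end CfsgLib.ThRep
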