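import Cfsg.Prelude.Def_Spor_Th
import Cfsg.Prelude.Def_Sporadic
import Cfsg.Agent.Lib.CosetEnum.Sound
import Cfsg.Agent.Lib.ThRep.Rel0
import Cfsg.Agent.Lib.ThRep.Rel1
import Cfsg.Agent.Lib.ThRep.Rel2
import Cfsg.Agent.Lib.ThRep.Rel3
import Cfsg.Agent.Lib.ThRep.Rel4
import Cfsg.Agent.Lib.ThRep.Rel5

/-!
A representation of degree 248 over the field with three elements of the presented Thompson group.
-/

set_option autoImplicit false

namespace CfsgLib.ThRep

open CfsgLib.CosetEnum Cfsg.Spor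

/-- the general linear group -/
abbrev U248 : Type := GL (Fin 248) (ZMod 3)

theorem mat_good : (List.range 11).all (fun g => goodB (letMat g)) = true := by decide +kernel

theorem good_let {g : ℕ} (h : g < 11) : Good 248 (letMat g) :=
  good_of_goodB (List.all_eq_true.1 mat_good g (List.mem_range.2 h))

theorem mat_inv : ([(0,0),(1,1),(2,2),(3,3),(4,4),(5,6),(6,5),(7,8),(8,7),(9,10),(10,9)] : List (ℕ × ℕ)).all
    (fun e => Nat.beq (mulP (letMat e.1) (letMat e.2)) oneP) = true := by decide +kernel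

theorem inv_eq {g h : ℕ} (hg : g < 11) (hh : h < 11)
    (hm : (g, h) ∈ ([(0,0),(1,1),(2,2),(3,3),(4,4),(5,6),(6,5),(7,8),(8,7),(9,10),(10,9)] : List (ℕ × ℕ))) :
    toMat 248 (letMat g) * toMat 248 (letMat h) = 1 := by
  rw [← (mulP_spec (good_let hg) (good_let hh)).2,
    Nat.eq_of_beq_eq_true (List.all_eq_true.1 mat_inv (g, h) hm), oneP_spec.2]

/-- a letter and its inverse as a unit -/
noncomputable def unitOf (g h : ℕ) (hg : g < 11 := by omega) (hh : h < 11 := by omega)
    (h1 : (g, h) ∈ ([(0,0),(1,1),(2,2),(3,3),(4,4),(5,6),(6,5),(7,8),(8,7),(9,10),(10,9)] : List (ℕ × ℕ)) := by simp)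
    (h2 : (h, g) ∈ ([(0,0),(1,1),(2,2),(3,3),(4,4),(5,6),(6,5),(7,8),(8,7),(9,10),(10,9)] : List (ℕ × ℕ)) := by simp) :
    U248 where
  val := toMat 248 (letMat g)
  inv := toMat 248 (letMat h)
  val_inv := inv_eq hg hh h1
  inv_val := inv_eq hh hg h2

/-- the images of the generators -/
noncomputable def fGen : Th.Gen → U248
  | .a => unitOf 0 0
  | .b => unitOf 1 1
  | .c => unitOf 2 2
  | .d => unitOf 3 3
  | .e => unitOf 4 4
  | .s => unitOf 5 6
  | .t => unitOf 7 8
  | .u => unitOf 9 10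

/-- sixteen letters -/
def free16 : ℕ → FreeGroup Th.Gen
  | 0 => Th.a | 1 => Th.b | 2 => Th.c | 3 => Th.d | 4 => Th.e
  | 5 => Th.s | 6 => Th.s⁻¹ | 7 => Th.t | 8 => Th.t⁻¹ | 9 => Th.u | 10 => Th.u⁻¹
  | 11 => Th.a⁻¹ | 12 => Th.b⁻¹ | 13 => Th.c⁻¹ | 14 => Th.d⁻¹ | 15 => Th.e⁻¹
  | _ => 1

theorem mat16_spec (g : ℕ) : Good 248 (mat16 g) ∧
    (FreeGroup.lift fGen (free16 g) : U248).val = toMat 248 (mat16 g) := by
  match g with
  | 0 => exact ⟨good_let (g := 0) (by omega), by simp [free16, mat16, fGen, unitOf, Th.a]⟩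
  | 1 => exact ⟨good_let (g := 1) (by omega), by simp [free16, mat16, fGen, unitOf, Th.b]⟩
  | 2 => exact ⟨good_let (g := 2) (by omega), by simp [free16, mat16, fGen, unitOf, Th.c]⟩
  | 3 => exact ⟨good_let (g := 3) (by omega), by simp [free16, mat16, fGen, unitOf, Th.d]⟩
  | 4 => exact ⟨good_let (g := 4) (by omega), by simp [free16, mat16, fGen, unitOf, Th.e]⟩
  | 5 => exact ⟨good_let (g := 5) (by omega), by simp [free16, mat16, fGen, unitOf, Th.s]⟩
  | 6 => exact ⟨good_let (g := 6) (by omega), by simp [free16, mat16, fGen, unitOf, Th.s]⟩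
  | 7 => exact ⟨good_let (g := 7) (by omega), by simp [free16, mat16, fGen, unitOf, Th.t]⟩
  | 8 => exact ⟨good_let (g := 8) (by omega), by simp [free16, mat16, fGen, unitOf, Th.t]⟩
  | 9 => exact ⟨good_let (g := 9) (by omega), by simp [free16, mat16, fGen, unitOf, Th.u]⟩
  | 10 => exact ⟨good_let (g := 10) (by omega), by simp [free16, mat16, fGen, unitOf, Th.u]⟩
  | 11 => exact ⟨good_let (g := 0) (by omega), by simp [free16, mat16, fGen, unitOf, Th.a]⟩
  | 12 => exact ⟨good_let (g := 1) (by omega), by simp [free16, mat16, fGen, unitOf, Th.b]⟩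
  | 13 => exact ⟨good_let (g := 2) (by omega), by simp [free16, mat16, fGen, unitOf, Th.c]⟩
  | 14 => exact ⟨good_let (g := 3) (by omega), by simp [free16, mat16, fGen, unitOf, Th.d]⟩
  | 15 => exact ⟨good_let (g := 4) (by omega), by simp [free16, mat16, fGen, unitOf, Th.e]⟩
  | n + 16 =>
    have e : mat16 (n + 16) = oneP := by rw [mat16, if_neg (by omega), if_neg (by omega)]
    rw [e]
    exact ⟨oneP_spec.1, by simp [free16, oneP_spec.2]⟩

theorem wordMat_spec : ∀ w : List ℕ, Good 248 (wordMat w) ∧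
    (FreeGroup.lift fGen (prodW free16 w) : U248).val = toMat 248 (wordMat w)
  | [] => ⟨oneP_spec.1, by simp [wordMat, oneP_spec.2]⟩
  | [g] => by
    simp only [wordMat, prodW_cons, prodW_nil, mul_one]
    exact mat16_spec g
  | g :: h :: w => by
    obtain ⟨h1, h2⟩ := wordMat_spec (h :: w)
    obtain ⟨h3, h4⟩ := mat16_spec g
    rw [wordMat]
    refine ⟨(mulP_spec h3 h1).1, ?_⟩
    rw [prodW_cons, map_mul, Units.val_mul, h4, h2, (mulP_spec h3 h1).2]

theorem powMat_spec {A : ℕ} {u : U248} (hA : Good 248 A) (hu : u.val = toMat 248 A) :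
    ∀ n, Good 248 (powMat A n) ∧ (u ^ n).val = toMat 248 (powMat A n)
  | 0 => ⟨oneP_spec.1, by simp [powMat, oneP_spec.2]⟩
  | n + 1 => by
    obtain ⟨h1, h2⟩ := powMat_spec hA hu n
    have e : powMat A (n + 1) = strict (powMat A n) fun M' => mulP A M' := rfl
    rw [e, strict_eq]
    refine ⟨(mulP_spec hA h1).1, ?_⟩
    rw [pow_succ', Units.val_mul, h2, hu, (mulP_spec hA h1).2]

/-- the element of a product of powers -/
def facFree (r : List (List ℕ × ℕ)) : FreeGroup Th.Gen :=
  (r.map fun f => prodW free16 f.1 ^ f.2).prod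

theorem facMat_spec : ∀ r : List (List ℕ × ℕ), Good 248 (facMat r) ∧
    (FreeGroup.lift fGen (facFree r) : U248).val = toMat 248 (facMat r)
  | [] => ⟨oneP_spec.1, by simp [facMat, facFree, oneP_spec.2]⟩
  | f :: r => by
    obtain ⟨h1, h2⟩ := facMat_spec r
    obtain ⟨h3, h4⟩ := wordMat_spec f.1
    rw [facMat, strict_eq]
    obtain ⟨h5, h6⟩ := powMat_spec h3 h4 f.2
    refine ⟨(mulP_spec h5 h1).1, ?_⟩
    have ef : facFree (f :: r) = prodW free16 f.1 ^ f.2 * facFree r := rfl
    rw [ef, map_mul, map_pow, Units.val_mul, h6, h2, (mulP_spec h5 h1).2]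

theorem facFree_eq : relFactors.map facFree = Th.extra := by decide +kernel

theorem relOK_all : ∀ k < 39, relOK k = true := by
  intro k hk
  interval_cases k
  exacts [relOK_0, relOK_1, relOK_2, relOK_3, relOK_4, relOK_5, relOK_6, relOK_7, relOK_8, relOK_9, relOK_10, relOK_11, relOK_12, relOK_13, relOK_14, relOK_15, relOK_16, relOK_17, relOK_18, relOK_19, relOK_20, relOK_21, relOK_22, relOK_23, relOK_24, relOK_25, relOK_26, relOK_27, relOK_28, relOK_29, relOK_30, relOK_31, relOK_32, relOK_33, relOK_34, relOK_35, relOK_36, relOK_37, relOK_38]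

theorem relators_one :
    ∀ r ∈ coxRelators Th.edges ∪ {r | r ∈ Th.extra}, FreeGroup.lift fGen r = 1 := by
  intro r hr
  rcases hr with hr | hr
  · obtain ⟨i, hi, -⟩ := hr
    simp [coxNodes, Th.edges] at hi
  · obtain ⟨f, hf, rfl⟩ := List.mem_map.1 (facFree_eq ▸ (hr : r ∈ Th.extra))
    obtain ⟨k, hk, rfl⟩ := List.getElem_of_mem hf
    have h := relOK_all k (by simpa [relFactors] using hk)
    apply Units.ext
    rw [(facMat_spec _).2, Units.val_one, ← oneP_spec.2]
    unfold relOK at h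
    rw [List.getD_eq_getElem _ _ hk] at h
    rw [Nat.eq_of_beq_eq_true h]

/-- the representation -/
noncomputable def rho : Th →* U248 :=
  PresentedGroup.toGroup (f := fGen) (rels := coxRelators Th.edges ∪ {r | r ∈ Th.extra}) relators_one

theorem rho_mk (x : FreeGroup Th.Gen) :
    rho (PresentedGroup.mk (coxRelators Th.edges ∪ {r | r ∈ Th.extra}) x) = FreeGroup.lift fGen x := rfl

end CfsgLib.ThRep
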