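import Cfsg.Agent.Lib.CosetEnum.Basic

/-!
Square matrices over the field with three elements: one number with ten bits for each entry, row
after row. A product is a sum of one outer product for each column, and is reduced on all the
entries at once.
-/

set_option autoImplicit false

namespace CfsgLib.ThRep

open CfsgLib.CosetEnum

/-- entry number `k` -/
def lane (x k : ℕ) : ℕ := x / 1024 ^ k % 1024

theorem lane_head (x : ℕ) : lane x 0 = x % 1024 := by simp [lane]

theorem lane_succ (x k : ℕ) : lane x (k + 1) = lane (x / 1024) k := by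
  simp [lane, pow_succ', Nat.div_div_eq_div_mul]

theorem lane_lt (x k : ℕ) : lane x k < 1024 := Nat.mod_lt _ (by norm_num)

theorem lane_eq_zero {x k m : ℕ} (hx : x < 1024 ^ m) (hk : m ≤ k) : lane x k = 0 := by
  rw [lane, Nat.div_eq_of_lt (hx.trans_le (Nat.pow_le_pow_right (by norm_num) hk)), Nat.zero_mod]

theorem lane_add_mul : ∀ (m a b : ℕ), a < 1024 ^ m → ∀ k,
    lane (a + 1024 ^ m * b) k = if k < m then lane a k else lane b (k - m)
  | 0, a, b, h, k => by
    obtain rfl : a = 0 := by simpa using h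
    simp
  | m + 1, a, b, h, 0 => by
    rw [lane_head, if_pos (Nat.succ_pos m), lane_head, pow_succ', mul_assoc, Nat.add_mul_mod_self_left]
  | m + 1, a, b, h, k + 1 => by
    rw [lane_succ, pow_succ', mul_assoc, Nat.add_mul_div_left _ _ (by norm_num),
      lane_add_mul m (a / 1024) b (by rw [pow_succ'] at h; exact Nat.div_lt_of_lt_mul h) k, lane_succ a,
      Nat.add_sub_add_right]
    simp

/-- the number with given entries -/
def pack (f : ℕ → ℕ) (m : ℕ) : ℕ := ∑ k ∈ Finset.range m, f k * 1024 ^ k

theorem pack_lt {f : ℕ → ℕ} : ∀ {m : ℕ}, (∀ k < m, f k < 1024) → pack f m < 1024 ^ m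
  | 0, _ => by simp [pack]
  | m + 1, h => by
    have ih := pack_lt (m := m) fun k hk => h k (hk.trans (Nat.lt_succ_self m))
    rw [pack, Finset.sum_range_succ, pow_succ']
    have h2 : f m * 1024 ^ m ≤ 1023 * 1024 ^ m :=
      Nat.mul_le_mul_right _ (Nat.le_of_lt_succ (h m (Nat.lt_succ_self m)))
    change pack f m + _ < _
    omega

theorem lane_pack {f : ℕ → ℕ} : ∀ {m : ℕ}, (∀ k < m, f k < 1024) → ∀ k,
    lane (pack f m) k = if k < m then f k else 0
  | 0, _, k => by simp [pack, lane]
  | m + 1, h, k => by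
    have hm : ∀ k < m, f k < 1024 := fun k hk => h k (hk.trans (Nat.lt_succ_self m))
    rw [pack, Finset.sum_range_succ, mul_comm (f m)]
    change lane (pack f m + _) k = _
    rw [lane_add_mul m _ _ (pack_lt hm), lane_pack hm]
    by_cases h1 : k < m
    · simp [h1, h1.trans (Nat.lt_succ_self m)]
    · rw [if_neg h1]
      by_cases h2 : k < m + 1
      · obtain rfl : k = m := by omega
        rw [if_pos h2, Nat.sub_self, lane_head, Nat.mod_eq_of_lt (h k h2)]
      · rw [if_neg h2, lane_eq_zero (m := 1) (by simpa using h m (Nat.lt_succ_self m)) (by omega)]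

theorem pack_lane : ∀ {m x : ℕ}, x < 1024 ^ m → pack (lane x) m = x
  | 0, x, h => by
    obtain rfl : x = 0 := by simpa using h
    simp [pack]
  | m + 1, x, h => by
    rw [pack, Finset.sum_range_succ']
    simp only [lane_succ, pow_succ', lane_head, pow_zero, mul_one]
    rw [Finset.sum_congr rfl fun k _ => (mul_left_comm (lane (x / 1024) k) 1024 _), ← Finset.mul_sum]
    change 1024 * pack (lane (x / 1024)) m + _ = x
    rw [pack_lane (by rw [pow_succ'] at h; exact Nat.div_lt_of_lt_mul h), Nat.div_add_mod]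

theorem eq_of_lanes {m x y : ℕ} (hx : x < 1024 ^ m) (hy : y < 1024 ^ m)
    (h : ∀ k < m, lane x k = lane y k) : x = y := by
  rw [← pack_lane hx, ← pack_lane hy]
  exact Finset.sum_congr rfl fun k hk => by rw [h k (Finset.mem_range.1 hk)]

theorem pack_congr {f g : ℕ → ℕ} {m : ℕ} (h : ∀ k < m, f k = g k) : pack f m = pack g m :=
  Finset.sum_congr rfl fun k hk => by rw [h k (Finset.mem_range.1 hk)]

theorem pack_add (f g : ℕ → ℕ) (m : ℕ) : pack f m + pack g m = pack (fun k => f k + g k) m := by
  simp only [pack, ← Finset.sum_add_distrib, add_mul]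

theorem outer_eq (n : ℕ) (a b : ℕ → ℕ) : ∀ m : ℕ, 0 < n →
    pack (fun k => a (k / n) * b (k % n)) (n * m) =
      (∑ r ∈ Finset.range m, a r * 1024 ^ (n * r)) * pack b n
  | 0, _ => by simp [pack]
  | m + 1, hn => by
    rw [Nat.mul_succ, pack, Finset.sum_range_add, Finset.sum_range_succ _ m, add_mul]
    change pack (fun k => a (k / n) * b (k % n)) (n * m) + _ = _
    rw [outer_eq n a b m hn]
    congr 1
    rw [pack, Finset.mul_sum]
    refine Finset.sum_congr rfl fun j hj => ?_
    have hj' := Finset.mem_range.1 hj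
    rw [Nat.mul_add_div hn, Nat.div_eq_of_lt hj', add_zero, Nat.mul_add_mod, Nat.mod_eq_of_lt hj',
      pow_add]
    ring

theorem testBit_eq_lane (x k t : ℕ) (ht : t < 10) : x.testBit (10 * k + t) = (lane x k).testBit t := by
  rw [lane, show (1024 : ℕ) = 2 ^ 10 from rfl, Nat.testBit_mod_two_pow, ← pow_mul, Nat.testBit_div_two_pow,
    add_comm t]
  simp [ht]

theorem lane_bit (x k t : ℕ) : (lane x k).testBit t = (decide (t < 10) && x.testBit (10 * k + t)) := by
  rw [lane, show (1024 : ℕ) = 2 ^ 10 from rfl, Nat.testBit_mod_two_pow, ← pow_mul, Nat.testBit_div_two_pow,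
    add_comm t]

theorem lane_and (x y k : ℕ) : lane (x &&& y) k = lane x k &&& lane y k :=
  Nat.eq_of_testBit_eq fun t => by
    simp only [Nat.testBit_and, lane_bit]
    cases decide (t < 10) <;> simp

theorem lane_shift (x i k : ℕ) : lane (x >>> (10 * i)) k = lane x (i + k) :=
  Nat.eq_of_testBit_eq fun t => by
    simp only [lane_bit, Nat.testBit_shiftRight, mul_add, add_assoc]

theorem and_lt_left {x m : ℕ} (y : ℕ) (h : x < 1024 ^ m) : x &&& y < 1024 ^ m :=
  Nat.and_le_left.trans_lt h

theorem and_lt_right {y m : ℕ} (x : ℕ) (h : y < 1024 ^ m) : x &&& y < 1024 ^ m :=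
  Nat.and_le_right.trans_lt h

/-- entry `k` of the top bits of an entry -/
theorem lane_shift_and {x m c k s : ℕ} (hs : s ≤ 10) (hc : lane m k = c) (hc' : c < 2 ^ (10 - s)) :
    lane ((x >>> s) &&& m) k = lane x k / 2 ^ s &&& c := by
  refine Nat.eq_of_testBit_eq fun t => ?_
  rw [lane_bit, Nat.testBit_and, Nat.testBit_and, Nat.testBit_shiftRight, Nat.testBit_div_two_pow,
    lane_bit, ← hc, lane_bit]
  by_cases h : t < 10 - s
  · simp [show t + s < 10 by omega, show t < 10 by omega, show s + (10 * k + t) = 10 * k + (t + s) by omega]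
  · have h2 := Nat.testBit_lt_two_pow (hc'.trans_le (Nat.pow_le_pow_right two_pos (Nat.le_of_not_lt h)))
    rw [← hc, lane_bit] at h2
    by_cases ht : t < 10
    · simp_all
    · simp [ht]

end CfsgLib.ThRep
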